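import Mathlib.AlgebraicGeometry.IdealSheaf.Subscheme
import Mathlib.AlgebraicGeometry.Morphisms.ClosedImmersion
import Mathlib.AlgebraicGeometry.Properties

/-! Kernel ideal sheaf of a morphism with reduced source. -/

set_option autoImplicit false
universe u

open AlgebraicGeometry CategoryTheory TopologicalSpace

namespace Groth.Agent.H75.RedKer

theorem ker_app_eq_vanishingIdeal {X Y : Scheme.{u}} [IsReduced X] (f : X ⟶ Y) (U : Y.affineOpens) :
    RingHom.ker (f.app U).hom =
      (Scheme.IdealSheafData.vanishingIdeal ⟨closure (Set.range f), isClosed_closure⟩).ideal U := by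
  rw [Scheme.IdealSheafData.vanishingIdeal_ideal]
  ext s
  rw [RingHom.mem_ker, ← basicOpen_eq_bot_iff, ← Scheme.preimage_basicOpen,
    PrimeSpectrum.mem_vanishingIdeal]
  constructor
  · intro h p hp
    by_contra hc
    have h1 : U.2.fromSpec p ∈ Y.basicOpen s := by
      exact (IsAffineOpen.fromSpec_preimage_basicOpen U.2 s).ge hc
    obtain ⟨_, h2, x, rfl⟩ := mem_closure_iff.1 hp _ (Y.basicOpen s).isOpen h1
    have : x ∈ f ⁻¹ᵁ Y.basicOpen s := h2
    rw [h] at this
    exact this
  · intro h
    ext x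
    simp only [Opens.coe_bot, Set.mem_empty_iff_false, iff_false]
    intro hx
    obtain ⟨p, hp⟩ : f x ∈ Set.range U.2.fromSpec := by
      rw [U.2.range_fromSpec]; exact Y.basicOpen_le s hx
    have hmem : U.2.fromSpec p ∈ Y.basicOpen s := by rw [hp]; exact hx
    exact (IsAffineOpen.fromSpec_preimage_basicOpen U.2 s).le hmem (h p (subset_closure ⟨x, hp.symm⟩))

theorem ker_eq_vanishingIdeal {X Y : Scheme.{u}} [IsReduced X] (f : X ⟶ Y) :
    f.ker = Scheme.IdealSheafData.vanishingIdeal ⟨closure (Set.range f), isClosed_closure⟩ := by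
  have : (fun U : Y.affineOpens => RingHom.ker (f.app U).hom) =
      (Scheme.IdealSheafData.vanishingIdeal ⟨closure (Set.range f), isClosed_closure⟩).ideal :=
    funext (ker_app_eq_vanishingIdeal f)
  exact (congrArg Scheme.IdealSheafData.ofIdeals this).trans (Scheme.IdealSheafData.ofIdeals_ideal _)

theorem coe_support_ker {X Y : Scheme.{u}} [IsReduced X] (f : X ⟶ Y) :
    (f.ker.support : Set Y) = closure (Set.range f) := by
  rw [ker_eq_vanishingIdeal, Scheme.IdealSheafData.coe_support_vanishingIdeal]
  rfl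

theorem exists_lift {X Y Z : Scheme.{u}} [IsReduced X] (f : X ⟶ Y) (j : Z ⟶ Y) [IsClosedImmersion j]
    (h : Set.range f ⊆ Set.range j) : ∃ g : X ⟶ Z, g ≫ j = f := by
  have hle : j.ker ≤ f.ker := by
    rw [ker_eq_vanishingIdeal f, ← Scheme.IdealSheafData.le_support_iff_le_vanishingIdeal]
    exact closure_minimal (h.trans j.range_subset_ker_support) j.ker.support.2
  exact ⟨IsClosedImmersion.lift j f hle, IsClosedImmersion.lift_fac _ _ _⟩

end Groth.Agent.H75.RedKer
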