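import Groth.Agent.H75.RedKer
import Mathlib.AlgebraicGeometry.Morphisms.Immersion
import Mathlib.RingTheory.Ideal.Quotient.Operations

/-! Reduced closed subschemes. -/

set_option autoImplicit false
universe u

open AlgebraicGeometry CategoryTheory TopologicalSpace

namespace Groth.Agent.H75.RedSub

theorem isReduced_subscheme_of_isRadical {X : Scheme.{u}} (I : X.IdealSheafData)
    (h : ∀ U, (I.ideal U).IsRadical) : AlgebraicGeometry.IsReduced I.subscheme := by
  have : ∀ i, AlgebraicGeometry.IsReduced (I.subschemeCover.openCover.X i) := fun (U : X.affineOpens) => by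
    have : _root_.IsReduced ↥(CommRingCat.of (Γ(X, U.1) ⧸ I.ideal U)) :=
      (Ideal.isRadical_iff_quotient_reduced _).1 (h U)
    exact (inferInstance : AlgebraicGeometry.IsReduced (Spec (CommRingCat.of (Γ(X, U.1) ⧸ I.ideal U))))
  exact AlgebraicGeometry.IsReduced.of_openCover _ I.subschemeCover.openCover

instance isReduced_vanishingIdeal {X : Scheme.{u}} (Z : Closeds X) :
    AlgebraicGeometry.IsReduced (Scheme.IdealSheafData.vanishingIdeal Z).subscheme :=
  isReduced_subscheme_of_isRadical _ fun U => by
    rw [Scheme.IdealSheafData.vanishingIdeal_ideal]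
    exact PrimeSpectrum.isRadical_vanishingIdeal _

theorem isOpenImmersion_of_isImmersion_of_isDominant {X Y : Scheme.{u}} (f : X ⟶ Y) [IsImmersion f]
    [IsDominant f] [AlgebraicGeometry.IsReduced Y] : IsOpenImmersion f := by
  have hd : IsDominant f.liftCoborder := ⟨by
    intro y
    rw [f.coborderRange.ι.isOpenEmbedding.isInducing.closure_eq_preimage_closure_image, Set.mem_preimage,
      ← Set.range_comp, ← TopCat.coe_comp, ← Scheme.Hom.comp_base, f.liftCoborder_ι]
    exact f.denseRange _⟩
  have : Surjective f.liftCoborder :=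
    surjective_of_isDominant_of_isClosed_range _ f.liftCoborder.isClosedEmbedding.isClosed_range
  have : IsIso f.liftCoborder := isIso_of_isClosedImmersion_of_surjective _
  rw [← f.liftCoborder_ι]
  infer_instance

/-- The reduced closed subscheme on the closure of an immersed reduced scheme contains it as an open. -/
theorem exists_factor {Z X : Scheme.{u}} (h : Z ⟶ X) [IsImmersion h] [AlgebraicGeometry.IsReduced Z] :
    ∃ (W : Scheme.{u}) (j : Z ⟶ W) (i : W ⟶ X), IsOpenImmersion j ∧ IsClosedImmersion i ∧
      AlgebraicGeometry.IsReduced W ∧ Set.range i = closure (Set.range h) ∧ j ≫ i = h := by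
  let I := Scheme.IdealSheafData.vanishingIdeal (X := X) ⟨closure (Set.range h), isClosed_closure⟩
  have hr : Set.range I.subschemeι = closure (Set.range h) := by
    rw [Scheme.IdealSheafData.range_subschemeι, Scheme.IdealSheafData.coe_support_vanishingIdeal]
    rfl
  obtain ⟨j, hj⟩ := RedKer.exists_lift h I.subschemeι (subset_closure.trans hr.ge)
  have : IsImmersion (j ≫ I.subschemeι) := by rw [hj]; infer_instance
  have := IsImmersion.of_comp j I.subschemeι
  have : IsDominant j := ⟨by
    intro w
    rw [I.subschemeι.isEmbedding.isInducing.closure_eq_preimage_closure_image, Set.mem_preimage,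
      ← Set.range_comp, ← TopCat.coe_comp, ← Scheme.Hom.comp_base, hj, ← hr]
    exact ⟨w, rfl⟩⟩
  exact ⟨_, j, I.subschemeι, isOpenImmersion_of_isImmersion_of_isDominant j, inferInstance,
    isReduced_vanishingIdeal _, hr, hj⟩

theorem exists_iso {X Y Y' : Scheme.{u}} (i : Y ⟶ X) (i' : Y' ⟶ X) [IsImmersion i] [IsImmersion i']
    [AlgebraicGeometry.IsReduced Y] [AlgebraicGeometry.IsReduced Y'] (h : Set.range i = Set.range i') :
    ∃ e : Y ≅ Y', e.hom ≫ i' = i := by
  have aux : ∀ {A B : Scheme.{u}} (a : A ⟶ X) (b : B ⟶ X) [IsImmersion b]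
      [AlgebraicGeometry.IsReduced A], Set.range a = Set.range b → ∃ g : A ⟶ B, g ≫ b = a := by
    intro A B a b _ _ hab
    let V := b.coborderRange
    have hV : Set.range b ⊆ Set.range V.ι := by
      rw [Scheme.Opens.range_ι]; exact subset_coborder
    let a' := IsOpenImmersion.lift V.ι a (hab.le.trans hV)
    have ha' : a' ≫ V.ι = a := IsOpenImmersion.lift_fac _ _ _
    obtain ⟨g, hg⟩ := RedKer.exists_lift a' b.liftCoborder (by
      intro v ⟨x, hx⟩
      have : a x ∈ Set.range b := hab ▸ ⟨x, rfl⟩
      obtain ⟨y, hy⟩ := this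
      refine ⟨y, V.ι.isOpenEmbedding.injective ?_⟩
      rw [← hx, ← Scheme.Hom.comp_apply, ← Scheme.Hom.comp_apply, ha', b.liftCoborder_ι, hy])
    exact ⟨g, by rw [← b.liftCoborder_ι, ← Category.assoc, hg, ha']⟩
  obtain ⟨g, hg⟩ := aux i i' h
  obtain ⟨g', hg'⟩ := aux i' i h.symm
  exact ⟨⟨g, g', by rw [← cancel_mono i, Category.assoc, hg', hg, Category.id_comp],
    by rw [← cancel_mono i', Category.assoc, hg, hg', Category.id_comp]⟩, hg⟩

end Groth.Agent.H75.RedSub
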